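import Groth.Agent.Lib.VecLift3.Semi
import Groth.Agent.Lib.DefGlue3.Criteria
import Groth.Prelude.Def_ArtFun4

/-!
# Deforming vector bundles over a deformation
-/

set_option autoImplicit false
set_option linter.style.haveILetI false
set_option linter.unusedSectionVars false
set_option backward.isDefEq.respectTransparency false
set_option backward.isDefEq.respectTransparency.types false

universe u

open CategoryTheory CategoryTheory.Limits AlgebraicGeometry TopologicalSpace Opposite CategoryTheory.Abelian

namespace Groth.Agent.VecLift3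

open ArtFun

variable {k : Type u} [Field k] {C' C : Art k k} (p : C' ⟶ C)

theorem isClosedImmersion_specMap (hp : Art.IsSemismallExt p) : IsClosedImmersion (Art.specMap p) :=
  IsClosedImmersion.spec_of_surjective _ hp.1

theorem ker_res_mul_ker_specMap [QuasiCompact (Art.specRes C')] [QuasiCompact (Art.specMap p)]
    (hp : Art.IsSemismallExt p) : (Art.specRes C').ker * (Art.specMap p).ker = ⊥ :=
  SmoothObs3.ker_specMap_mul_eq_bot _ _ (by
    show RingHom.ker C'.res.toRingHom * RingHom.ker p.toAlgHom = ⊥
    rw [DefGlue3.ker_res]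
    exact hp.2)

theorem ker_specMap_sq [QuasiCompact (Art.specMap p)] (hp : Art.IsSemismallExt p) :
    (Art.specMap p).ker * (Art.specMap p).ker = ⊥ :=
  SmoothObs3.ker_specMap_mul_eq_bot _ _ (by
    refine le_bot_iff.1 (le_trans (Ideal.mul_mono ?_ le_rfl) hp.2.le)
    exact IsLocalRing.le_maximalIdeal (RingHom.ker_ne_top _))

variable (hp : Art.IsSemismallExt p) {X₀ : Scheme.{u}} {x : X₀ ⟶ Art.specPt k} (X' : DefSch X₀ x C')
include hp

/-- A square zero thickening with obstruction groups read on the closed fibre. -/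
theorem exists_thickening (F : (X'.baseChange p).total.Modules) (hF : FlatMod.IsFinLocFree F)
    [DCoh.HasSheafHom ((Scheme.Modules.pullback (X'.baseChange p).i).obj F)] :
    ∃ (I : X'.total.IdealSheafData) (_ : HasExt.{u} I.subscheme.Modules) (F₁ : I.subscheme.Modules)
      (e : (X'.baseChange p).total ⟶ I.subscheme) (e' : I.subscheme ⟶ (X'.baseChange p).total),
      e ≫ I.subschemeι = pullback.fst X'.f (Art.specMap p) ∧
      e' ≫ pullback.fst X'.f (Art.specMap p) = I.subschemeι ∧ I * I = ⊥ ∧ FlatMod.IsFinLocFree F₁ ∧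
      Nonempty ((Scheme.Modules.pullback e).obj F₁ ≅ F) ∧ Nonempty ((Scheme.Modules.pullback e').obj F ≅ F₁) ∧
      ∀ n : ℕ, Subsingleton (Coh.HH X₀ ((DCoh.sheafHom ((Scheme.Modules.pullback (X'.baseChange p).i).obj F)).obj
          ((Scheme.Modules.pullback (X'.baseChange p).i).obj F)) n) →
        Subsingleton (Ext.{u} F₁ (CohB1.tensorMod
          ((Scheme.Modules.pullback I.subschemeι).obj (ClSub.idealMod I)) F₁) n) := by
  haveI := isClosedImmersion_specMap p hp
  haveI : IsClosedImmersion (Art.specRes C') := IsClosedImmersion.spec_of_surjective _ C'.res_surjective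
  haveI := DefGlue3.isClosedImmersion_i X'
  let j := pullback.fst X'.f (Art.specMap p)
  haveI : IsClosedImmersion j := MorphismProperty.pullback_fst _ _ inferInstance
  haveI hE : HasExt.{u} j.ker.subscheme.Modules := hasExt_of_enoughInjectives _
  let e : (X'.baseChange p).total ⟶ j.ker.subscheme := j.toImage
  haveI : IsIso j.toImage := inferInstance
  have he : j.toImage ≫ j.ker.subschemeι = j := Scheme.Hom.toImage_imageι j
  have he' : inv j.toImage ≫ j = j.ker.subschemeι := by rw [IsIso.inv_comp_eq, he]
  let t := (X'.baseChange p).i ≫ j.toImage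
  have ht : t ≫ j.ker.subschemeι = X'.i := by
    rw [Category.assoc, he]
    exact pullback.lift_fst _ _ _
  haveI : IsClosedImmersion (t ≫ j.ker.subschemeι) := ht ▸ inferInstance
  haveI : IsClosedImmersion t := IsClosedImmersion.of_comp t j.ker.subschemeι
  let F₁ := (Scheme.Modules.pullback (inv j.toImage)).obj F
  have hF₁ : FlatMod.IsFinLocFree F₁ := M2.isFinLocFree_pullback _ hF
  have c1 : (Scheme.Modules.pullback j.toImage).obj F₁ ≅ F :=
    (Scheme.Modules.pullbackComp j.toImage (inv j.toImage)).app F ≪≫
      (Scheme.Modules.pullbackCongr (IsIso.hom_inv_id j.toImage)).app F ≪≫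
      (Scheme.Modules.pullbackId _).app F
  have c0 : (Scheme.Modules.pullback t).obj F₁ ≅ (Scheme.Modules.pullback (X'.baseChange p).i).obj F :=
    ((Scheme.Modules.pullbackComp (X'.baseChange p).i j.toImage).app F₁).symm ≪≫
      (Scheme.Modules.pullback (X'.baseChange p).i).mapIso c1
  refine ⟨j.ker, hE, F₁, e, inv j.toImage, he, he', ?_, hF₁, ⟨c1⟩, ⟨Iso.refl _⟩, fun n hn => ?_⟩
  · rw [FormalH7.ker_of_isPullback (IsPullback.of_hasPullback X'.f (Art.specMap p)), ← EffCartier.comap_mul,
      ker_specMap_sq p hp, Scheme.IdealSheafData.comap_bot]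
  · obtain ⟨ι, hι, ⟨a⟩⟩ := exists_pullback_idealMod_iso (k := CommRingCat.of k) (Field.toIsField k) X'.f
      (Art.specMap p) (IsPullback.of_hasPullback X'.f (Art.specMap p)) (Art.specRes C')
      (ker_res_mul_ker_specMap p hp) (x₀ := x) (t := t) (ht ▸ X'.isPullback)
    exact subsingleton_ext_tensor t a hF₁ c0 n hn

end Groth.Agent.VecLift3
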