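import Groth.Agent.Lib.CAlgLow.TorNil
import Mathlib.RingTheory.IsTensorProduct
import Mathlib.RingTheory.RingHom.Flat
import Mathlib.LinearAlgebra.TensorProduct.RightExactness

/-!
# Flatness of a lift without torsion
-/

set_option autoImplicit false
set_option linter.style.haveILetI false

open TensorProduct

universe u

namespace Groth.Agent.VecLift3

variable {A A₁ R S M N : Type u} [CommRing A] [CommRing A₁] [CommRing R] [CommRing S]
  [Algebra A A₁] [Algebra A R] [Algebra R S] [Algebra A S] [Algebra A₁ S] [IsScalarTower A A₁ S]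
  [IsScalarTower A R S] [AddCommGroup M] [Module R M] [Module A M] [IsScalarTower A R M]
  [AddCommGroup N] [Module R N] [Module S N] [IsScalarTower R S N] [Module A₁ N] [IsScalarTower A₁ S N]

/-- A lift of a flat module without torsion along the ideal of a square zero thickening is flat. -/
theorem flat_of_injective_rTensor (f : M →ₗ[R] N) (hf : IsBaseChange S f)
    (hA : Function.Surjective (algebraMap A A₁)) (hS : Function.Surjective (algebraMap R S))
    (hker : RingHom.ker (algebraMap R S) = (RingHom.ker (algebraMap A A₁)).map (algebraMap A R))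
    (hsq : RingHom.ker (algebraMap A A₁) * RingHom.ker (algebraMap A A₁) = ⊥)
    (hinj : Function.Injective ((RingHom.ker (algebraMap R S)).subtype.rTensor M))
    [Module.Flat A R] [Module.Flat A₁ N] : Module.Flat A M := by
  let I := RingHom.ker (algebraMap A A₁)
  let J := RingHom.ker (algebraMap R S)
  -- torsion vanishes
  have htor : Function.Injective (I.subtype.rTensor M) := by
    let φ₀ : I →ₗ[A] J := LinearMap.codRestrict (J.restrictScalars A) ((Algebra.linearMap A R).comp I.subtype)
      fun a => hker.ge (Ideal.mem_map_of_mem _ a.2)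
    let φ : R ⊗[A] I →ₗ[R] J := φ₀.liftBaseChange R
    have hφi : Function.Injective φ := by
      have e : ∀ z, TensorProduct.AlgebraTensorModule.rid A R R (I.subtype.baseChange R z) = J.subtype (φ z) := by
        intro z
        induction z using TensorProduct.induction_on with
        | zero => simp
        | add a b ha hb => simp only [map_add, ha, hb]
        | tmul r a =>
          rw [LinearMap.baseChange_tmul, TensorProduct.AlgebraTensorModule.rid_tmul, LinearMap.liftBaseChange_tmul]
          exact (Algebra.smul_def _ _).trans (mul_comm _ _)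
      intro a b hab
      exact Module.Flat.lTensor_preserves_injective_linearMap I.subtype I.injective_subtype
        ((TensorProduct.AlgebraTensorModule.rid A R R).injective ((e a).trans
          ((congrArg J.subtype hab).trans (e b).symm)))
    have hφs : Function.Surjective φ := by
      intro y
      suffices h : (y : R) ∈ LinearMap.range (J.subtype.comp φ) by
        obtain ⟨z, hz⟩ := h
        exact ⟨z, Subtype.ext hz⟩
      have hy : (y : R) ∈ I.map (algebraMap A R) := hker.le y.2
      refine Submodule.span_le.2 ?_ hy
      rintro _ ⟨a, ha, rfl⟩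
      exact ⟨1 ⊗ₜ ⟨a, ha⟩, by rw [LinearMap.comp_apply, LinearMap.liftBaseChange_tmul, one_smul]; rfl⟩
    let Ψ : M ⊗[A] I →ₗ[R] M ⊗[R] J := (LinearMap.lTensor M φ).comp
      (TensorProduct.AlgebraTensorModule.cancelBaseChange A R R M I).symm.toLinearMap
    have hΨ : Function.Injective Ψ :=
      ((LinearEquiv.lTensor M (LinearEquiv.ofBijective φ ⟨hφi, hφs⟩)).injective).comp (LinearEquiv.injective _)
    let θ : I ⊗[A] M → J ⊗[R] M := fun z => TensorProduct.comm R M J (Ψ (TensorProduct.comm A I M z))
    have hθ : ∀ z, TensorProduct.lid R M (J.subtype.rTensor M (θ z)) =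
        TensorProduct.lid A M (I.subtype.rTensor M z) := by
      intro z
      induction z using TensorProduct.induction_on with
      | zero => simp [θ]
      | add a b ha hb => simp only [θ, map_add] at ha hb ⊢; rw [ha, hb]
      | tmul a m =>
        simp only [θ, Ψ, TensorProduct.comm_tmul, LinearMap.comp_apply, LinearEquiv.coe_coe,
          TensorProduct.AlgebraTensorModule.cancelBaseChange_symm_tmul, LinearMap.lTensor_tmul, φ,
          LinearMap.liftBaseChange_tmul, one_smul, LinearMap.rTensor_tmul, TensorProduct.lid_tmul]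
        exact algebraMap_smul R (a : A) m
    intro a b hab
    have h := congrArg (TensorProduct.lid A M) hab
    rw [← hθ, ← hθ] at h
    exact (TensorProduct.comm A I M).injective (hΨ ((TensorProduct.comm R M J).injective
      (hinj ((TensorProduct.lid R M).injective h))))
  -- flatness modulo the ideal
  let e₀ : (A ⧸ I) ≃+* A₁ := RingHom.quotientKerEquivOfSurjective hA
  letI : Algebra (A ⧸ I) A₁ := e₀.toRingHom.toAlgebra
  letI : Module (A ⧸ I) N := Module.compHom N e₀.toRingHom
  haveI : IsScalarTower (A ⧸ I) A₁ N := IsScalarTower.of_algebraMap_smul fun _ _ => rfl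
  haveI : Module.Flat (A ⧸ I) A₁ := RingHom.Flat.of_bijective (f := e₀.toRingHom) e₀.bijective
  haveI : Module.Flat (A ⧸ I) N := Module.Flat.trans (A ⧸ I) A₁ N
  letI : Module A N := Module.compHom N (algebraMap A A₁)
  haveI : IsScalarTower A (A ⧸ I) N := IsScalarTower.of_algebraMap_smul fun _ _ => rfl
  let f₀ : M →ₗ[A] N :=
    { toFun := f
      map_add' := f.map_add
      map_smul' := fun a m => by
        show f (a • m) = algebraMap A A₁ a • f m
        rw [← algebraMap_smul R a m, map_smul, ← algebraMap_smul S (algebraMap A R a) (f m),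
          ← algebraMap_smul S (algebraMap A A₁ a) (f m), ← IsScalarTower.algebraMap_apply,
          ← IsScalarTower.algebraMap_apply] }
  have hfs : Function.Surjective f := fun n => by
    obtain ⟨z, rfl⟩ := hf.equiv.surjective n
    induction z using TensorProduct.induction_on with
    | zero => exact ⟨0, by simp⟩
    | add a b ha hb =>
      obtain ⟨p, hp⟩ := ha
      obtain ⟨q, hq⟩ := hb
      exact ⟨p + q, by rw [map_add, map_add, hp, hq]⟩
    | tmul s m =>
      obtain ⟨r, rfl⟩ := hS s
      exact ⟨r • m, by rw [map_smul, hf.equiv_tmul, algebraMap_smul]⟩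
  have hker' : ∀ m, f m = 0 → m ∈ I • (⊤ : Submodule A M) := fun m hm => by
    have h1 : (1 : S) ⊗ₜ[R] m = 0 := hf.equiv.injective (by rw [hf.equiv_tmul, one_smul, hm, map_zero])
    have hex : Function.Exact J.subtype (Algebra.linearMap R S) := fun r =>
      ⟨fun h => ⟨⟨r, h⟩, rfl⟩, fun ⟨y, hy⟩ => hy ▸ y.2⟩
    obtain ⟨w, hw⟩ := (rTensor_exact M hex hS (1 ⊗ₜ m)).1 (by
      rw [LinearMap.rTensor_tmul, Algebra.linearMap_apply, map_one]; exact h1)
    have h2 : TensorProduct.lid R M (J.subtype.rTensor M w) = m := by rw [hw, TensorProduct.lid_tmul, one_smul]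
    rw [← h2]
    clear hw h2
    induction w using TensorProduct.induction_on with
    | zero => simp
    | add a b ha hb => simp only [map_add]; exact Submodule.add_mem _ ha hb
    | tmul y m =>
      rw [LinearMap.rTensor_tmul, TensorProduct.lid_tmul]
      suffices h : ∀ r ∈ I.map (algebraMap A R), ∀ n : M, r • n ∈ I • (⊤ : Submodule A M) from h _ (hker.le y.2) m
      intro r hr
      refine Submodule.span_induction ?_ (fun n => by simp) (fun _ _ _ _ h h' n => ?_) (fun c d _ h n => ?_) hr
      · rintro _ ⟨a, ha, rfl⟩ n
        rw [algebraMap_smul]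
        exact Submodule.smul_mem_smul ha trivial
      · rw [add_smul]; exact Submodule.add_mem _ (h n) (h' n)
      · rw [smul_eq_mul, mul_comm, mul_smul]; exact h _
  let l : (A ⧸ I) ⊗[A] M →ₗ[A ⧸ I] N := f₀.liftBaseChange (A ⧸ I)
  have hl : Function.Bijective l := by
    refine ⟨(injective_iff_map_eq_zero l).2 fun z hz => ?_, fun n => ?_⟩
    · obtain ⟨m, rfl⟩ := TensorProduct.mk_surjective A M (A ⧸ I) (Ideal.Quotient.mk_surjective) z
      have hm : f m = 0 := by simpa [l, f₀] using hz
      refine Submodule.smul_induction_on (hker' m hm) (fun a ha n _ => ?_) fun a b ha hb => by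
        simp only [map_add, ha, hb, add_zero]
      simp only [TensorProduct.mk_apply, TensorProduct.tmul_smul, TensorProduct.smul_tmul']
      have h0 : a • (1 : A ⧸ I) = 0 := by
        rw [Algebra.smul_def, mul_one]
        exact Ideal.Quotient.eq_zero_iff_mem.2 ha
      rw [h0, TensorProduct.zero_tmul]
    · obtain ⟨m, rfl⟩ := hfs n
      exact ⟨1 ⊗ₜ m, by simp [l, f₀]⟩
  haveI : Module.Flat (A ⧸ I) ((A ⧸ I) ⊗[A] M) := Module.Flat.of_linearEquiv (LinearEquiv.ofBijective l hl)
  exact CAlgLow.flat_of_flat_mod_nilpotent (I := I) ⟨2, by rw [pow_two, hsq]; rfl⟩ htor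

end Groth.Agent.VecLift3
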