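import Groth.Agent.Lib.VecLift3.FlatAlg
import Groth.Agent.Lib.VecLift3.LocFree
import Groth.Agent.Lib.Exact8.StalkBC2
import Groth.Agent.Lib.FormalH7.Ideal
import Groth.Agent.Lib.EffCartier.Comap

/-!
# Flatness of lifts without torsion
-/

set_option autoImplicit false
set_option linter.style.haveILetI false
set_option linter.unusedSectionVars false
set_option backward.isDefEq.respectTransparency false
set_option backward.isDefEq.respectTransparency.types false

universe u

open CategoryTheory CategoryTheory.Limits AlgebraicGeometry TopologicalSpace Opposite TensorProduct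

namespace Groth.Agent.VecLift3

open Groth.Agent.M1

/-- Kernels of stalk maps of closed immersions come from sections vanishing on the subscheme. -/
theorem exists_germ_ker {X Z : Scheme.{u}} (i : Z ⟶ X) [IsClosedImmersion i] (z : Z)
    (r : X.presheaf.stalk (i z)) (hr : i.stalkMap z r = 0) :
    ∃ (U : X.Opens) (hU : i z ∈ U) (c : Γ(X, U)), i.app U c = 0 ∧ X.presheaf.germ U (i z) hU c = r := by
  obtain ⟨U, hU, c, rfl⟩ := X.presheaf.exists_germ_eq r
  rw [Scheme.Hom.germ_stalkMap_apply, ← map_zero (Z.presheaf.germ (i ⁻¹ᵁ U) z hU).hom] at hr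
  obtain ⟨W', hzW', i₁, i₂, hW⟩ := Z.presheaf.germ_eq z hU hU _ _ hr
  obtain ⟨W₀, hW₀, hW₀'⟩ := i.isClosedEmbedding.isInducing.isOpen_iff.1 W'.2
  have hzV : i z ∈ U ⊓ ⟨W₀, hW₀⟩ := ⟨hU, show z ∈ i ⁻¹' W₀ by rw [hW₀']; exact hzW'⟩
  have hle : i ⁻¹ᵁ (U ⊓ ⟨W₀, hW₀⟩) ≤ W' := fun w hw => by
    have : w ∈ i ⁻¹' W₀ := hw.2
    rwa [hW₀'] at this
  refine ⟨_, hzV, ores inf_le_left c, ?_,
    TopCat.Presheaf.germ_res_apply X.presheaf (homOfLE inf_le_left) _ hzV c⟩
  refine (ConcreteCategory.congr_hom (i.naturality (homOfLE (inf_le_left : U ⊓ ⟨W₀, hW₀⟩ ≤ U)).op) c).trans ?_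
  have hW' := congrArg (Z.presheaf.map (homOfLE hle).op) hW
  rw [map_zero, map_zero] at hW'
  rw [← CategoryTheory.comp_apply, ← Functor.map_comp] at hW'
  exact hW'

theorem mem_ker_of_le {X Z : Scheme.{u}} (i : Z ⟶ X) [QuasiCompact i] {U : X.Opens} {c : Γ(X, U)}
    (hc : i.app U c = 0) {W : X.Opens} (hW : IsAffineOpen W) (hle : W ≤ U) : ores hle c ∈ i.ker.ideal ⟨W, hW⟩ := by
  rw [Scheme.Hom.ker_apply, RingHom.mem_ker]
  refine (ConcreteCategory.congr_hom (i.naturality (homOfLE hle).op) c).trans ?_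
  erw [CategoryTheory.comp_apply, hc, map_zero]

/-- The stalk kernels of a square zero closed immersion square to zero. -/
theorem ker_stalkMap_sq {X Z : Scheme.{u}} (i : Z ⟶ X) [IsClosedImmersion i] (hI : i.ker * i.ker = ⊥) (z : Z)
    {a b : X.presheaf.stalk (i z)} (ha : i.stalkMap z a = 0) (hb : i.stalkMap z b = 0) : a * b = 0 := by
  obtain ⟨U, hU, c, hc, rfl⟩ := exists_germ_ker i z a ha
  obtain ⟨V, hV, d, hd, rfl⟩ := exists_germ_ker i z b hb
  obtain ⟨W, hW, hzW, hle⟩ := exists_isAffineOpen_mem_and_subset (x := i z) (U := U ⊓ V) ⟨hU, hV⟩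
  have hWU : W ≤ U := fun w hw => (hle hw).1
  have hWV : W ≤ V := fun w hw => (hle hw).2
  have h0 := Ideal.mul_mem_mul (mem_ker_of_le i hc hW hWU) (mem_ker_of_le i hd hW hWV)
  rw [show i.ker.ideal ⟨W, hW⟩ * i.ker.ideal ⟨W, hW⟩ = (i.ker * i.ker).ideal ⟨W, hW⟩ from rfl, hI] at h0
  have h1 : ores hWU c * ores hWV d = 0 := by simpa using h0
  have h2 := congrArg (X.presheaf.germ W (i z) hzW) h1
  rw [map_mul, map_zero] at h2
  exact (congrArg₂ (· * ·) (TopCat.Presheaf.germ_res_apply X.presheaf (homOfLE hWU) _ hzW c).symm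
    (TopCat.Presheaf.germ_res_apply X.presheaf (homOfLE hWV) _ hzW d).symm).trans h2

theorem injective_ιx {X : Scheme.{u}} (I : X.IdealSheafData) (x : X) : Function.Injective (ιx I x) := by
  haveI : Mono (ClSub.idealModι I) := inferInstanceAs (Mono (kernel.ι (ClSub.toSubscheme I)))
  exact (str x).symm.injective.comp ((M1.mono_iff_stalk (ClSub.idealModι I)).1 inferInstance x)

/-- A lift without torsion of a relatively flat module is relatively flat. -/
theorem isFlatOver_of_mono {X S B : Scheme.{u}} (f : X ⟶ S) [Flat f] (i : B ⟶ S) [IsClosedImmersion i]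
    {I : X.IdealSheafData} {fz : I.subscheme ⟶ B} (sq : IsPullback I.subschemeι fz f i)
    (hi : i.ker * i.ker = ⊥) (hI : I * I = ⊥) {E : X.Modules} [Mono (ExtLift23.mulMap I E)]
    (hE : FlatMod.IsFlatOver fz ((Scheme.Modules.pullback I.subschemeι).obj E)) : FlatMod.IsFlatOver f E := by
  intro y
  obtain ⟨z, rfl⟩ := surjective_subschemeι hI y
  let ι := I.subschemeι
  let A := S.presheaf.stalk (f (ι z))
  let A₁ := B.presheaf.stalk (fz z)
  let R := X.presheaf.stalk (ι z)
  let O := I.subscheme.presheaf.stalk z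
  letI : Algebra A A₁ := (Exact8.baseMap sq z).hom.toAlgebra
  letI : Algebra A R := (f.stalkMap (ι z)).hom.toAlgebra
  letI : Algebra R O := (ι.stalkMap z).hom.toAlgebra
  letI : Algebra A O := ((ι.stalkMap z).hom.comp (f.stalkMap (ι z)).hom).toAlgebra
  letI : Algebra A₁ O := (fz.stalkMap z).hom.toAlgebra
  haveI : IsScalarTower A R O := IsScalarTower.of_algebraMap_eq fun _ => rfl
  haveI : IsScalarTower A A₁ O := IsScalarTower.of_algebraMap_eq fun a =>
    (ConcreteCategory.congr_hom (Exact8.stalk_square sq z) a).symm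
  letI : Module A (E.presheaf.stalk (ι z) : Type u) := FlatMod.moduleStalkOver f E (ι z)
  haveI : IsScalarTower A R (E.presheaf.stalk (ι z) : Type u) := IsScalarTower.of_algebraMap_smul fun _ _ => rfl
  letI : Module A₁ (((Scheme.Modules.pullback ι).obj E).presheaf.stalk z : Type u) :=
    FlatMod.moduleStalkOver fz ((Scheme.Modules.pullback ι).obj E) z
  haveI : IsScalarTower A₁ O (((Scheme.Modules.pullback ι).obj E).presheaf.stalk z : Type u) :=
    IsScalarTower.of_algebraMap_smul fun _ _ => rfl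
  haveI : Module.Flat A₁ (((Scheme.Modules.pullback ι).obj E).presheaf.stalk z : Type u) := hE z
  haveI : Module.Flat A R := Flat.stalkMap f (ι z)
  have hpt : f (ι z) = i (fz z) := by
    rw [← Scheme.Hom.comp_apply, ← Scheme.Hom.comp_apply, sq.w]
  have hA : Function.Surjective (algebraMap A A₁) :=
    (i.stalkMap_surjective (fz z)).comp (ConcreteCategory.bijective_of_isIso
      (S.presheaf.stalkCongr (.of_eq hpt)).hom).2
  have hsq : RingHom.ker (algebraMap A A₁) * RingHom.ker (algebraMap A A₁) = ⊥ := by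
    refine le_bot_iff.1 (Ideal.mul_le.2 fun a ha b hb => Ideal.mem_bot.2 ?_)
    apply (ConcreteCategory.bijective_of_isIso (S.presheaf.stalkCongr (.of_eq hpt)).hom).1
    rw [map_mul, map_zero]
    exact ker_stalkMap_sq i hi (fz z) (RingHom.mem_ker.1 ha) (RingHom.mem_ker.1 hb)
  have hker : RingHom.ker (algebraMap R O) = (RingHom.ker (algebraMap A A₁)).map (algebraMap A R) := by
    refine le_antisymm (fun r hr => ?_) (Ideal.map_le_iff_le_comap.2 fun a ha => ?_)
    · obtain ⟨U, hU, c, hc, rfl⟩ := exists_germ_ker ι z r (RingHom.mem_ker.1 hr)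
      obtain ⟨V, hV, hzV, -⟩ := exists_isAffineOpen_mem_and_subset (x := f (ι z)) (U := (⊤ : S.Opens)) trivial
      obtain ⟨W, hW, hzW, hle⟩ := exists_isAffineOpen_mem_and_subset (x := ι z) (U := U ⊓ f ⁻¹ᵁ V) ⟨hU, hzV⟩
      have hWU : W ≤ U := fun w hw => (hle hw).1
      have e : W ≤ f ⁻¹ᵁ V := fun w hw => (hle hw).2
      have hm := mem_ker_of_le ι hc hW hWU
      rw [FormalH7.ker_of_isPullback sq, EffCartier.comap_ideal i.ker f ⟨V, hV⟩ ⟨W, hW⟩ e] at hm
      rw [← TopCat.Presheaf.germ_res_apply X.presheaf (homOfLE hWU) _ hzW c]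
      suffices h : i.ker.ideal ⟨V, hV⟩ ≤ (((RingHom.ker (algebraMap A A₁)).map (algebraMap A R)).comap
          (X.presheaf.germ W (ι z) hzW).hom).comap (f.appLE V W e).hom from
        Ideal.map_le_iff_le_comap.2 h hm
      intro a ha
      have he : X.presheaf.germ W (ι z) hzW (f.appLE V W e a) =
          f.stalkMap (ι z) (S.presheaf.germ V (f (ι z)) hzV a) := by
        rw [Scheme.Hom.germ_stalkMap_apply]
        exact TopCat.Presheaf.germ_res_apply X.presheaf (homOfLE e) _ hzW _
      show X.presheaf.germ W (ι z) hzW (f.appLE V W e a) ∈ (RingHom.ker (algebraMap A A₁)).map (algebraMap A R)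
      rw [he]
      refine Ideal.mem_map_of_mem _ (RingHom.mem_ker.2 ?_)
      show i.stalkMap (fz z) ((S.presheaf.stalkCongr (.of_eq hpt)).hom (S.presheaf.germ V (f (ι z)) hzV a)) = 0
      rw [show (S.presheaf.stalkCongr (.of_eq hpt)).hom (S.presheaf.germ V (f (ι z)) hzV a) =
        S.presheaf.germ V (i (fz z)) (hpt ▸ hzV) a from TopCat.Presheaf.germ_stalkSpecializes_apply _ _ _ _,
        Scheme.Hom.germ_stalkMap_apply]
      rw [Scheme.Hom.ker_apply] at ha
      rw [RingHom.mem_ker.1 ha, map_zero]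
      exact specializes_of_eq hpt.symm
    · rw [Ideal.mem_comap, RingHom.mem_ker, ← IsScalarTower.algebraMap_apply,
        IsScalarTower.algebraMap_apply A A₁ O, RingHom.mem_ker.1 ha, map_zero]
  have hinj : Function.Injective ((RingHom.ker (algebraMap R O)).subtype.rTensor
      (E.presheaf.stalk (ι z) : Type u)) := by
    let e₀ : ((ClSub.idealMod I).presheaf.stalk (ι z) : Type u) →ₗ[R] RingHom.ker (algebraMap R O) :=
      LinearMap.codRestrict _ (ιx I (ι z)) fun p => RingHom.mem_ker.2
        (show algebraMap R O (ιx I (ι z) p) = 0 from ((exact_ιx I z) (ιx I (ι z) p)).2 ⟨p, rfl⟩)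
    have hsurj : Function.Surjective e₀ := fun r => by
      have h0 : algebraMap R O r.1 = 0 := RingHom.mem_ker.1 r.2
      obtain ⟨p, hp⟩ := ((exact_ιx I z) r.1).1 h0
      exact ⟨p, Subtype.ext hp⟩
    have he : ∀ w, TensorProduct.lid R (E.presheaf.stalk (ι z) : Type u)
        ((RingHom.ker (algebraMap R O)).subtype.rTensor (E.presheaf.stalk (ι z) : Type u)
          (e₀.rTensor (E.presheaf.stalk (ι z) : Type u) w)) =
        TensorProduct.lift ((LinearMap.lsmul R (E.presheaf.stalk (ι z) : Type u)).comp (ιx I (ι z))) w := by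
      intro w
      induction w using TensorProduct.induction_on with
      | zero => simp
      | add a b ha hb => simp only [map_add, ha, hb]
      | tmul p m => rfl
    intro a b hab
    obtain ⟨a, rfl⟩ := LinearMap.rTensor_surjective (E.presheaf.stalk (ι z) : Type u) hsurj a
    obtain ⟨b, rfl⟩ := LinearMap.rTensor_surjective (E.presheaf.stalk (ι z) : Type u) hsurj b
    refine congrArg _ (injective_lift_ιx (E := E) (ι z) ?_)
    rw [← he, ← he, hab]
  exact flat_of_injective_rTensor (A := A) (A₁ := A₁) (M2.stalkUnit ι z E) (M2.isBaseChange_stalkUnit ι z E) hA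
    (ι.stalkMap_surjective z) hker hsq hinj

end Groth.Agent.VecLift3
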