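import Groth.Agent.Lib.VecLift3.Gen
import Groth.Agent.Lib.CBC10.SectGood
import Groth.Agent.Lib.ClImmProj14.Derived
import Groth.Agent.Lib.Exact8.StalkBC2
import Groth.Agent.Lib.SmoothObs3.Cech
import Mathlib.Algebra.Homology.DerivedCategory.Ext.ExactSequences

/-!
# Second extensions of relatively flat modules by direct images from the fibre
-/

set_option autoImplicit false
set_option linter.style.haveILetI false
set_option linter.unusedSectionVars false
set_option backward.isDefEq.respectTransparency false
set_option backward.isDefEq.respectTransparency.types false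

universe u

open CategoryTheory CategoryTheory.Limits AlgebraicGeometry TopologicalSpace Opposite CategoryTheory.Abelian TensorProduct

namespace Groth.Agent.VecLift3

section algebra

variable {A B : Type u} [CommRing A] [CommRing B] [Algebra A B] {K P F : Type u}
  [AddCommGroup K] [Module A K] [AddCommGroup P] [Module A P] [AddCommGroup F] [Module A F]

/-- Kernels of surjections between flat modules are flat. -/
theorem flat_of_exact (f : K →ₗ[A] P) (g : P →ₗ[A] F) (hf : Function.Injective f) (hg : Function.Surjective g)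
    (he : Function.Exact f g) [Module.Flat A P] [Module.Flat A F] : Module.Flat A K := by
  refine Module.Flat.iff_rTensor_injective'.2 fun J => ?_
  have h1 : Function.Injective (f.lTensor J) := LinearMap.lTensor_injective_of_exact_of_flat g hg f hf he J
  have h2 : Function.Injective (J.subtype.rTensor P) := Module.Flat.iff_rTensor_injective'.1 inferInstance J
  have e : (f.lTensor A).comp (J.subtype.rTensor K) = (J.subtype.rTensor P).comp (f.lTensor J) := by
    rw [LinearMap.lTensor_comp_rTensor, LinearMap.rTensor_comp_lTensor]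
  intro a b hab
  exact h1 (h2 ((LinearMap.congr_fun e a).symm.trans ((congrArg (f.lTensor A) hab).trans (LinearMap.congr_fun e b))))

end algebra

variable {X Y X' Y' : Scheme.{u}} {g : X' ⟶ X} {f' : X' ⟶ Y'} {f : X ⟶ Y} {h : Y' ⟶ Y}

/-- Pullback along a base change keeps an inclusion with relatively flat cokernel injective. -/
theorem mono_pullback_of_relFlat (sq : IsPullback g f' f h) {S : ShortComplex X.Modules} (hS : S.ShortExact)
    (h₃ : FlatMod.IsFlatOver f S.X₃) : Mono ((Scheme.Modules.pullback g).map S.f) := by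
  refine (M1.mono_iff_stalk _).2 fun x => ?_
  obtain ⟨ρ, h1, h2, hρ⟩ := Exact8.exists_rho sq x
  let A := Y.presheaf.stalk (f (g x))
  let B := X.presheaf.stalk (g x)
  let B' := X'.presheaf.stalk x
  let A' := Y'.presheaf.stalk (f' x)
  letI : Algebra A B := (f.stalkMap (g x)).hom.toAlgebra
  letI : Algebra A A' := (Exact8.baseMap sq x).hom.toAlgebra
  let ρ' : A' ⊗[A] B →+* B' := ρ
  letI : Algebra (B ⊗[A] A') B' := (ρ'.comp (Algebra.TensorProduct.comm A B A').toRingEquiv.toRingHom).toAlgebra
  haveI : Module.Flat (B ⊗[A] A') B' := RingHom.Flat.comp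
    (RingHom.Flat.of_bijective (f := (Algebra.TensorProduct.comm A B A').toRingEquiv.toRingHom)
      (Algebra.TensorProduct.comm A B A').bijective) (show ρ'.Flat from hρ)
  let u := KFlat.Sch.stk S.f (g x)
  let v := KFlat.Sch.stk S.g (g x)
  letI : Module A (S.X₃.presheaf.stalk (g x) : Type u) := FlatMod.moduleStalkOver f S.X₃ (g x)
  letI : Module A (S.X₁.presheaf.stalk (g x) : Type u) := FlatMod.moduleStalkOver f S.X₁ (g x)
  letI : Module A (S.X₂.presheaf.stalk (g x) : Type u) := FlatMod.moduleStalkOver f S.X₂ (g x)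
  haveI : IsScalarTower A B (S.X₃.presheaf.stalk (g x) : Type u) := IsScalarTower.of_algebraMap_smul fun _ _ => rfl
  haveI : IsScalarTower A B (S.X₁.presheaf.stalk (g x) : Type u) := IsScalarTower.of_algebraMap_smul fun _ _ => rfl
  haveI : IsScalarTower A B (S.X₂.presheaf.stalk (g x) : Type u) := IsScalarTower.of_algebraMap_smul fun _ _ => rfl
  haveI : Module.Flat A (S.X₃.presheaf.stalk (g x) : Type u) := h₃ (g x)
  have hinj : Function.Injective u := (M1.mono_iff_stalk S.f).1 hS.mono_f (g x)
  have hex := (hS.map_of_exact (M1.stalkAb (g x)))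
  have hsurj : Function.Surjective v := (AddCommGrpCat.epi_iff_surjective _).1 hex.epi_g
  have hexact : Function.Exact u v := (ShortComplex.ab_exact_iff_function_exact _).1 hex.exact
  have k0 : Function.Injective ((u.restrictScalars A).lTensor A') :=
    LinearMap.lTensor_injective_of_exact_of_flat (v.restrictScalars A) hsurj (u.restrictScalars A) hinj hexact A'
  have k1 : Function.Injective (u.lTensor (B ⊗[A] A')) := by
    have e : ∀ z, TensorProduct.AlgebraTensorModule.cancelBaseChange A B B (S.X₂.presheaf.stalk (g x)) A'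
        ((u.rTensor (B ⊗[A] A')) z) = (u.restrictScalars A).rTensor A'
          (TensorProduct.AlgebraTensorModule.cancelBaseChange A B B (S.X₁.presheaf.stalk (g x)) A' z) := by
      intro z
      induction z using TensorProduct.induction_on with
      | zero => simp
      | add a b ha hb => simp only [map_add, ha, hb]
      | tmul m w =>
        induction w using TensorProduct.induction_on with
        | zero => simp
        | add a b ha hb => simp only [TensorProduct.tmul_add, map_add, ha, hb]
        | tmul b a' => exact congrArg (· ⊗ₜ[A] a') (u.map_smul b m).symm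
    refine (LinearMap.lTensor_inj_iff_rTensor_inj _ u).2 fun a b hab => ?_
    apply (TensorProduct.AlgebraTensorModule.cancelBaseChange A B B (S.X₁.presheaf.stalk (g x)) A').injective
    apply (LinearMap.lTensor_inj_iff_rTensor_inj A' (u.restrictScalars A)).1 k0
    rw [← e, ← e, hab]
  letI : Algebra B B' := (g.stalkMap x).hom.toAlgebra
  haveI : IsScalarTower B (B ⊗[A] A') B' := IsScalarTower.of_algebraMap_eq fun b =>
    (RingHom.congr_fun h2 b).symm
  have k2 : Function.Injective (u.lTensor B') := by
    have e : ∀ z, TensorProduct.AlgebraTensorModule.cancelBaseChange B (B ⊗[A] A') B' B'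
        (S.X₂.presheaf.stalk (g x)) ((u.baseChange (B ⊗[A] A')).lTensor B' z) = u.lTensor B'
          (TensorProduct.AlgebraTensorModule.cancelBaseChange B (B ⊗[A] A') B' B' (S.X₁.presheaf.stalk (g x)) z) := by
      intro z
      induction z using TensorProduct.induction_on with
      | zero => simp
      | add a b ha hb => simp only [map_add, ha, hb]
      | tmul m w =>
        induction w using TensorProduct.induction_on with
        | zero => simp
        | add a b ha hb => simp only [TensorProduct.tmul_add, map_add, ha, hb]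
        | tmul b a' => rfl
    intro a b hab
    obtain ⟨a, rfl⟩ := (TensorProduct.AlgebraTensorModule.cancelBaseChange B (B ⊗[A] A') B' B' _).surjective a
    obtain ⟨b, rfl⟩ := (TensorProduct.AlgebraTensorModule.cancelBaseChange B (B ⊗[A] A') B' B' _).surjective b
    rw [← e, ← e] at hab
    exact congrArg _ (Module.Flat.lTensor_preserves_injective_linearMap (u.baseChange (B ⊗[A] A')) k1
      ((TensorProduct.AlgebraTensorModule.cancelBaseChange B (B ⊗[A] A') B' B' _).injective hab))
  intro a b hab
  obtain ⟨a, rfl⟩ := (M2.pullStalkEquiv g x S.X₁).surjective a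
  obtain ⟨b, rfl⟩ := (M2.pullStalkEquiv g x S.X₁).surjective b
  rw [KFlat.Sch.pullStalkEquiv_naturality, KFlat.Sch.pullStalkEquiv_naturality] at hab
  exact congrArg _ (k2 ((M2.pullStalkEquiv g x S.X₂).injective hab))

/-- The kernel of an epimorphism of relatively flat modules is relatively flat. -/
theorem isFlatOver_X₁ {S : ShortComplex X.Modules} (hS : S.ShortExact) (h₂ : FlatMod.IsFlatOver f S.X₂)
    (h₃ : FlatMod.IsFlatOver f S.X₃) : FlatMod.IsFlatOver f S.X₁ := fun x => by
  let A := Y.presheaf.stalk (f.base x)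
  letI : Module A (S.X₁.presheaf.stalk x : Type u) := FlatMod.moduleStalkOver f S.X₁ x
  letI : Module A (S.X₂.presheaf.stalk x : Type u) := FlatMod.moduleStalkOver f S.X₂ x
  letI : Module A (S.X₃.presheaf.stalk x : Type u) := FlatMod.moduleStalkOver f S.X₃ x
  haveI : Module.Flat A (S.X₂.presheaf.stalk x : Type u) := h₂ x
  haveI : Module.Flat A (S.X₃.presheaf.stalk x : Type u) := h₃ x
  let u : (S.X₁.presheaf.stalk x : Type u) →ₗ[A] (S.X₂.presheaf.stalk x : Type u) :=
    { KFlat.Sch.stk S.f x with map_smul' := fun r m => (KFlat.Sch.stk S.f x).map_smul ((f.stalkMap x).hom r) m }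
  let v : (S.X₂.presheaf.stalk x : Type u) →ₗ[A] (S.X₃.presheaf.stalk x : Type u) :=
    { KFlat.Sch.stk S.g x with map_smul' := fun r m => (KFlat.Sch.stk S.g x).map_smul ((f.stalkMap x).hom r) m }
  have hex := (hS.map_of_exact (M1.stalkAb x))
  exact flat_of_exact u v ((M1.mono_iff_stalk S.f).1 hS.mono_f x)
    ((AddCommGrpCat.epi_iff_surjective _).1 hex.epi_g) ((ShortComplex.ab_exact_iff_function_exact _).1 hex.exact)

section ext

/-- Every module is a quotient of a free one. -/
theorem exists_free_epi (F : X.Modules) : ∃ (Q : Type u) (O : Q → X.Opens) (π : freeOn O ⟶ F), Epi π := by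
  let O : (Σ U : X.Opens, Γ(F, U)) → X.Opens := fun p => p.1
  obtain ⟨π, hπ⟩ := exists_desc O (N := F) fun p => p.2
  refine ⟨_, O, π, (M1.epi_iff_locally_surjective _).2 fun U s x hx => ?_⟩
  refine ⟨U, le_rfl, hx, val O (𝟙 _) ⟨U, s⟩, ?_⟩
  refine ((val_comp O (𝟙 _) π ⟨U, s⟩).symm.trans ?_)
  rw [Category.id_comp, hπ]
  exact (M1.mres_id F le_rfl s).symm

variable [HasExt.{u} X.Modules]

/-- Acyclic modules have no first extensions by free modules. -/
theorem subsingleton_ext_one_freeOn {Q : Type u} (O : Q → X.Opens) {N : X.Modules}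
    (hN : ∀ V, CBC10.Good N V) : Subsingleton (Ext.{u} (freeOn O) N 1) := by
  have hE := SmoothObs3.injEmb_shortExact N
  haveI : Injective (SmoothObs3.injEmb N).X₂ := inferInstanceAs (Injective (Injective.under N))
  refine subsingleton_of_forall_eq 0 fun x => ?_
  obtain ⟨w, rfl⟩ := Ext.covariant_sequence_exact₁ _ hE x (Ext.eq_zero_of_injective _) (n₀ := 0) rfl
  obtain ⟨w, rfl⟩ := (Ext.mk₀_bijective _ _).2 w
  choose s hs using fun p => CBC10.app_surjective_of_good hE (hN (O p)) (val O w p)
  obtain ⟨ψ, hψ⟩ := exists_desc O s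
  obtain rfl : ψ ≫ (SmoothObs3.injEmb N).g = w := hom_ext O fun p => by rw [val_comp, hψ, hs]
  rw [← Ext.mk₀_comp_mk₀, Ext.comp_assoc_of_second_deg_zero, hE.comp_extClass, Ext.comp_zero]

/-- Acyclic modules have no second extensions by free modules. -/
theorem subsingleton_ext_two_freeOn {Q : Type u} (O : Q → X.Opens) {N : X.Modules}
    (hN : ∀ V, CBC10.Good N V) : Subsingleton (Ext.{u} (freeOn O) N 2) := by
  have hE := SmoothObs3.injEmb_shortExact N
  haveI : Injective (SmoothObs3.injEmb N).X₂ := inferInstanceAs (Injective (Injective.under N))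
  haveI := subsingleton_ext_one_freeOn O (N := (SmoothObs3.injEmb N).X₃) fun V =>
    CBC10.good_X₃ hE (hN V) (CBC10.good_push_injective (𝟙 X) (Injective.under N) |> CBC10.good_of_iso
      ((Scheme.Modules.pushforwardId X).app _))
  refine subsingleton_of_forall_eq 0 fun x => ?_
  obtain ⟨w, rfl⟩ := Ext.covariant_sequence_exact₁ _ hE x (Ext.eq_zero_of_injective _) (n₀ := 1) rfl
  rw [Subsingleton.elim w 0, Ext.zero_comp]

/-- Relatively flat modules have no first extensions by direct images of injectives from the fibre. -/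
theorem subsingleton_ext_one_push (sq : IsPullback g f' f h) [Flat f] {F : X.Modules}
    (hF : FlatMod.IsFlatOver f F) (J : X'.Modules) [Injective J] :
    Subsingleton (Ext.{u} F ((Scheme.Modules.pushforward g).obj J) 1) := by
  obtain ⟨Q, O, π, hπ⟩ := exists_free_epi F
  let S := ShortComplex.mk (kernel.ι π) π (kernel.condition π)
  have hS : S.ShortExact :=
    { exact := ShortComplex.exact_of_f_is_kernel _ (kernelIsKernel _), mono_f := inferInstance, epi_g := hπ }
  haveI : Mono ((Scheme.Modules.pullback g).map (kernel.ι π)) := mono_pullback_of_relFlat sq hS hF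
  haveI := subsingleton_ext_one_freeOn O (N := (Scheme.Modules.pushforward g).obj J)
    fun V => CBC10.good_push_injective g J
  refine subsingleton_of_forall_eq 0 fun x => ?_
  obtain ⟨w, rfl⟩ := Ext.contravariant_sequence_exact₃ hS _ x (Subsingleton.elim _ _) (n₀ := 0) rfl
  obtain ⟨w, rfl⟩ := (Ext.mk₀_bijective _ _).2 w
  let adj := Scheme.Modules.pullbackPushforwardAdjunction g
  let w' := (adj.homEquiv _ _).symm w
  have e : ∃ v, S.f ≫ v = w := ⟨adj.homEquiv _ _ (Injective.factorThru w' ((Scheme.Modules.pullback g).map (kernel.ι π))), by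
    rw [← Adjunction.homEquiv_naturality_left, Injective.comp_factorThru, Equiv.apply_symm_apply]⟩
  clear_value w'
  obtain ⟨v, rfl⟩ := e
  rw [← Ext.mk₀_comp_mk₀, hS.extClass_comp_assoc]

/-- Relatively flat modules have no second extensions by direct images of injectives from the fibre. -/
theorem subsingleton_ext_two_push (sq : IsPullback g f' f h) [Flat f] {F : X.Modules}
    (hF : FlatMod.IsFlatOver f F) (J : X'.Modules) [Injective J] :
    Subsingleton (Ext.{u} F ((Scheme.Modules.pushforward g).obj J) 2) := by
  obtain ⟨Q, O, π, hπ⟩ := exists_free_epi F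
  let S := ShortComplex.mk (kernel.ι π) π (kernel.condition π)
  have hS : S.ShortExact :=
    { exact := ShortComplex.exact_of_f_is_kernel _ (kernelIsKernel _), mono_f := inferInstance, epi_g := hπ }
  haveI := subsingleton_ext_two_freeOn O (N := (Scheme.Modules.pushforward g).obj J)
    fun V => CBC10.good_push_injective g J
  haveI := subsingleton_ext_one_push sq (isFlatOver_X₁ hS
    (DPerf.isFlatOver_of_isFlat f (isFlat_freeOn O)) hF) J
  refine subsingleton_of_forall_eq 0 fun x => ?_
  obtain ⟨w, rfl⟩ := Ext.contravariant_sequence_exact₃ hS _ x (Subsingleton.elim _ _) (n₀ := 1) rfl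
  rw [Subsingleton.elim w 0, Ext.comp_zero]

/-- Second extensions of a relatively flat module by a direct image from the fibre vanish with those on the fibre. -/
theorem subsingleton_ext_two_of_fibre (sq : IsPullback g f' f h) [Flat f] [IsClosedImmersion g] [HasExt.{u} X'.Modules]
    {F : X.Modules} (hF : FlatMod.IsFlatOver f F) (N : X'.Modules)
    (hN : Subsingleton (Ext.{u} ((Scheme.Modules.pullback g).obj F) N 2)) :
    Subsingleton (Ext.{u} F ((Scheme.Modules.pushforward g).obj N) 2) := by
  haveI := ClImmProj14.preservesHomology_push g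
  haveI : Subsingleton (Ext.{u} ((Scheme.Modules.pullback g).obj F) (SmoothObs3.injEmb N).X₁ 2) := hN
  let adj := Scheme.Modules.pullbackPushforwardAdjunction g
  have hE := SmoothObs3.injEmb_shortExact N
  haveI : Injective (SmoothObs3.injEmb N).X₂ := inferInstanceAs (Injective (Injective.under N))
  let N₁ := (SmoothObs3.injEmb N).X₃
  have hE₁ := SmoothObs3.injEmb_shortExact N₁
  haveI : Injective (SmoothObs3.injEmb N₁).X₂ := inferInstanceAs (Injective (Injective.under N₁))
  have h1 : Subsingleton (Ext.{u} ((Scheme.Modules.pullback g).obj F) N₁ 1) := by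
    refine subsingleton_of_forall_eq 0 fun y => ?_
    obtain ⟨z, rfl⟩ := Ext.covariant_sequence_exact₃ _ hE y (n₁ := 2) rfl (Subsingleton.elim _ _)
    rw [Ext.eq_zero_of_injective z, Ext.zero_comp]
  have hEp := hE.map_of_exact (Scheme.Modules.pushforward g)
  have hEp₁ := hE₁.map_of_exact (Scheme.Modules.pushforward g)
  haveI := subsingleton_ext_one_push sq hF (SmoothObs3.injEmb N₁).X₂
  haveI := subsingleton_ext_two_push sq hF (SmoothObs3.injEmb N).X₂
  have h2 : Subsingleton (Ext.{u} F ((Scheme.Modules.pushforward g).obj N₁) 1) := by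
    refine subsingleton_of_forall_eq 0 fun y => ?_
    obtain ⟨w, rfl⟩ := Ext.covariant_sequence_exact₁ _ hEp₁ y (@Subsingleton.elim _
      (subsingleton_ext_one_push sq hF (SmoothObs3.injEmb N₁).X₂) _ _) (n₀ := 0) rfl
    obtain ⟨w, rfl⟩ := (Ext.mk₀_bijective _ _).2 w
    obtain ⟨z, hz⟩ := Ext.covariant_sequence_exact₃ _ hE₁ (Ext.mk₀ ((adj.homEquiv _ _).symm w)) (n₁ := 1) rfl
      (h1.elim _ _)
    obtain ⟨z, rfl⟩ := (Ext.mk₀_bijective _ _).2 z
    rw [Ext.mk₀_comp_mk₀] at hz
    have hz' := (Ext.mk₀_bijective _ _).1 hz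
    obtain rfl : adj.homEquiv _ _ z ≫ ((SmoothObs3.injEmb N₁).map (Scheme.Modules.pushforward g)).g = w :=
      (adj.homEquiv_naturality_right z (SmoothObs3.injEmb N₁).g).symm.trans
        ((congrArg (adj.homEquiv _ _) hz').trans (Equiv.apply_symm_apply _ _))
    rw [← Ext.mk₀_comp_mk₀, Ext.comp_assoc_of_second_deg_zero, hEp₁.comp_extClass, Ext.comp_zero]
  refine subsingleton_of_forall_eq 0 fun y => ?_
  obtain ⟨w, rfl⟩ := Ext.covariant_sequence_exact₁ _ hEp y (@Subsingleton.elim _
    (subsingleton_ext_two_push sq hF (SmoothObs3.injEmb N).X₂) _ _) (n₀ := 1) rfl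
  rw [h2.elim w 0, Ext.zero_comp]

end ext

end Groth.Agent.VecLift3
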