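import Groth.Agent.Lib.VecLift3.Def
import Groth.Agent.Lib.VecLift3.RelExt
import Groth.Agent.Lib.VecLift3.FlatLift
import Groth.Agent.Lib.GrpOmega.Free

/-!
# Flat quasi-coherent lifts over semismall extensions
-/

set_option autoImplicit false
set_option linter.style.haveILetI false
set_option linter.unusedSectionVars false
set_option backward.isDefEq.respectTransparency false
set_option backward.isDefEq.respectTransparency.types false

universe u

open CategoryTheory CategoryTheory.Limits AlgebraicGeometry TopologicalSpace Opposite CategoryTheory.Abelian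

namespace Groth.Agent.VecLift3

open ArtFun

variable {k : Type u} [Field k]

theorem ofBase_comp {C' C : Art k k} (π : C' ⟶ C) : Art.ofBase C' ≫ π = Art.ofBase C :=
  Art.hom_ext (AlgHom.ext fun c => π.toAlgHom.commutes c)

theorem specRes_ofBase (C : Art k k) : Art.specRes C ≫ Art.specMap (Art.ofBase C) = 𝟙 (Art.specPt k) := by
  rw [Art.specRes_comp]
  show Spec.map (CommRingCat.ofHom (RingHom.id k)) = 𝟙 _
  rw [CommRingCat.ofHom_id]
  exact Spec.map_id _

/-- The special fibre of a base change along a pointed map. -/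
theorem isPullback_section {X XC S T P : Scheme.{u}} {x : X ⟶ P} {q : XC ⟶ X} {pC : XC ⟶ S} {a : S ⟶ P}
    (hC : IsPullback q pC x a) {j : X ⟶ XC} {r : T ⟶ S} {x' : X ⟶ T} (hjq : j ≫ q = 𝟙 X) (hjp : j ≫ pC = x' ≫ r)
    (hra : IsIso (r ≫ a)) (hx : x' ≫ r ≫ a = x) : IsPullback j x' pC r := by
  refine IsPullback.of_right ?_ hjp hC
  rw [hjq]
  exact IsPullback.of_horiz_isIso ⟨by rw [Category.id_comp, hx]⟩

/-- Flat quasi-coherent modules lift over semismall extensions without obstructions on the special fibre. -/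
theorem exists_qcoh_flat_lift {C' C : Art k k} (π : C' ⟶ C) (hπ : Art.IsSemismallExt π)
    {X XC XC' : Scheme.{u}} {x : X ⟶ Art.specPt k} [HasExt.{u} X.Modules] {E₀ : X.Modules}
    (hExt : Subsingleton (Ext.{u} E₀ E₀ 2))
    {g : XC ⟶ XC'} {pC : XC ⟶ Art.spec C} {pC' : XC' ⟶ Art.spec C'} [Flat pC']
    (hg : IsPullback g pC pC' (Art.specMap π)) {j : X ⟶ XC} (hj : IsPullback j x pC (Art.specRes C))
    (hj' : IsPullback (j ≫ g) x pC' (Art.specRes C'))
    {E : XC.Modules} (hE : Coh.IsQCoh E) (hEfl : FlatMod.IsFlatOver pC E)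
    (e₀ : (Scheme.Modules.pullback j).obj E ≅ E₀) :
    ∃ E' : XC'.Modules, Coh.IsQCoh E' ∧ FlatMod.IsFlatOver pC' E' ∧
      Nonempty ((Scheme.Modules.pullback g).obj E' ≅ E) := by
  haveI := isClosedImmersion_specMap π hπ
  haveI : IsClosedImmersion (Art.specRes C') := IsClosedImmersion.spec_of_surjective _ C'.res_surjective
  haveI : IsClosedImmersion (j ≫ g) := MorphismProperty.of_isPullback hj'.flip inferInstance
  haveI : IsClosedImmersion g := MorphismProperty.of_isPullback hg.flip inferInstance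
  haveI : HasExt.{u} g.ker.subscheme.Modules := hasExt_of_enoughInjectives _
  haveI : IsIso g.toImage := inferInstance
  have he : g.toImage ≫ g.ker.subschemeι = g := Scheme.Hom.toImage_imageι g
  let t := j ≫ g.toImage
  have ht : t ≫ g.ker.subschemeι = j ≫ g := by rw [Category.assoc, he]
  haveI : IsClosedImmersion (t ≫ g.ker.subschemeι) := ht ▸ inferInstance
  haveI : IsClosedImmersion t := IsClosedImmersion.of_comp t g.ker.subschemeι
  let fz := inv g.toImage ≫ pC
  have sqz : IsPullback g.ker.subschemeι fz pC' (Art.specMap π) :=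
    IsPullback.of_iso hg (asIso g.toImage) (Iso.refl _) (Iso.refl _) (Iso.refl _) (by simp [he]) (by simp [fz])
      (by simp) (by simp)
  haveI : Flat fz := MorphismProperty.of_isPullback sqz ‹Flat pC'›
  have sqt : IsPullback t x fz (Art.specRes C) :=
    IsPullback.of_iso hj (Iso.refl _) (asIso g.toImage) (Iso.refl _) (Iso.refl _) (by simp [t]) (by simp)
      (by simp [fz]) (by simp)
  let F₁ := (Scheme.Modules.pullback (inv g.toImage)).obj E
  have hF₁fl : FlatMod.IsFlatOver fz F₁ :=
    Exact8.isFlatOver_pullback (f := pC) (h := 𝟙 _) (IsPullback.of_horiz_isIso ⟨by simp [fz]⟩) hEfl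
  have c1 : (Scheme.Modules.pullback g.toImage).obj F₁ ≅ E :=
    (Scheme.Modules.pullbackComp g.toImage (inv g.toImage)).app E ≪≫
      (Scheme.Modules.pullbackCongr (IsIso.hom_inv_id g.toImage)).app E ≪≫ (Scheme.Modules.pullbackId _).app E
  have c0 : (Scheme.Modules.pullback t).obj F₁ ≅ E₀ :=
    ((Scheme.Modules.pullbackComp j g.toImage).app F₁).symm ≪≫ (Scheme.Modules.pullback j).mapIso c1 ≪≫ e₀
  have hI : g.ker * g.ker = ⊥ := by
    rw [FormalH7.ker_of_isPullback hg, ← EffCartier.comap_mul, ker_specMap_sq π hπ,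
      Scheme.IdealSheafData.comap_bot]
  obtain ⟨ι, hι, ⟨a⟩⟩ := exists_pullback_idealMod_iso (k := CommRingCat.of k) (Field.toIsField k) pC'
    (Art.specMap π) hg (Art.specRes C') (ker_res_mul_ker_specMap π hπ) (x₀ := x) (t := t) (ht ▸ hj')
  obtain ⟨b⟩ := nonempty_tensor_iso t a c0
  have h2 := SmoothObs3.subsingleton_ext_of_iso (Iso.refl F₁) b.symm
    (SmoothObs3.subsingleton_ext_coproduct F₁ ((Scheme.Modules.pushforward t).obj E₀)
      (subsingleton_ext_two_of_fibre sqt hF₁fl E₀
        (SmoothObs3.subsingleton_ext_of_iso c0.symm (Iso.refl _) hExt)))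
  obtain ⟨E', hq, hμ, ⟨e⟩⟩ := exists_lift g.ker hI (M1.isQCoh_pullback _ hE) h2
  haveI := hμ
  refine ⟨E', hq, isFlatOver_of_mono pC' (Art.specMap π) sqz (ker_specMap_sq π hπ) hI
    (RelPCS8.isFlatOver_of_iso e.symm hF₁fl), ⟨?_⟩⟩
  exact (Scheme.Modules.pullbackCongr he.symm).app E' ≪≫
    ((Scheme.Modules.pullbackComp g.toImage g.ker.subschemeι).app E').symm ≪≫
    (Scheme.Modules.pullback g.toImage).mapIso e ≪≫ c1

end Groth.Agent.VecLift3
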