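import Groth.Agent.Lib.VecLift3.Lift
import Groth.Agent.Lib.HilbObs3.Vanish
import Groth.Agent.Lib.EmbLift3.Vanish
import Groth.Agent.Lib.SmoothObs3.Adic
import Groth.Agent.Lib.ConormalBC19.Basic
import Groth.Agent.Lib.PullBC11.AffineBC
import Groth.Agent.S12483

/-!
# The obstruction module of a thickening by a module killed by the maximal ideal
-/

set_option autoImplicit false
set_option linter.style.haveILetI false
set_option linter.unusedSectionVars false
set_option backward.isDefEq.respectTransparency false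
set_option backward.isDefEq.respectTransparency.types false

universe u

open CategoryTheory CategoryTheory.Limits AlgebraicGeometry TopologicalSpace Opposite CategoryTheory.Abelian

namespace Groth.Agent.VecLift3

/-- An ideal annihilated by `i₀.ker` is killed by it. -/
theorem killed_idealMod_of_mul {S K : Scheme.{u}} (i₀ : K ⟶ S) [IsClosedImmersion i₀] (J : S.IdealSheafData)
    (h : i₀.ker * J = ⊥) : HomO15.Killed i₀ (ClSub.idealMod J) := by
  intro U a ha s
  refine M2.idealIncl_injective J U.1 ?_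
  rw [M2.idealIncl_smul, PicH1_21.idealIncl_zero]
  have hs : M2.idealIncl J s ∈ J.ideal U := (M2.range_idealIncl J U).le ⟨s, rfl⟩
  have h1 := Ideal.mul_mem_mul ha hs
  rw [show i₀.ker.ideal U * J.ideal U = (i₀.ker * J).ideal U from rfl, h] at h1
  simpa using h1

/-- The ideal of a flat base change. -/
theorem nonempty_pullback_idealMod_iso {X' S B Xc : Scheme.{u}} (f : X' ⟶ S) [Flat f] (i : B ⟶ S)
    [IsClosedImmersion i] {j : Xc ⟶ X'} {fc : Xc ⟶ B} (hj : IsPullback j fc f i) :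
    Nonempty ((Scheme.Modules.pullback f).obj (ClSub.idealMod i.ker) ≅ ClSub.idealMod j.ker) := by
  have hk : j.ker = i.ker.comap f := FormalH7.ker_of_isPullback hj
  have h : i.ker ≤ j.ker.map f := by
    rw [hk]
    exact (Scheme.IdealSheafData.map_gc f).le_u_l i.ker
  haveI := ConormalBC19.mono_psi f i.ker j.ker h
  haveI := ConormalBC19.epi_psi f i.ker j.ker h fun z => by
    obtain ⟨U, hU, hzU, -⟩ := exists_isAffineOpen_mem_and_subset (x := f z) (U := (⊤ : S.Opens)) trivial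
    exact ⟨⟨U, hU⟩, hzU, fun V e => le_of_eq (by rw [hk, EffCartier.comap_ideal i.ker f ⟨U, hU⟩ V e])⟩
  haveI := isIso_of_mono_of_epi (ConormalBC19.psi f i.ker j.ker h)
  exact ⟨asIso (ConormalBC19.psi f i.ker j.ker h)⟩

/-- The ideal of a flat thickening killed by the maximal ideal is a free module on the closed fibre. -/
theorem exists_pullback_idealMod_iso {X' S B Xc X₀ : Scheme.{u}} {k : CommRingCat.{u}} (hk : IsField k)
    [IsLocallyNoetherian S] (f : X' ⟶ S) [Flat f] (i : B ⟶ S) [IsClosedImmersion i] {j : Xc ⟶ X'} {fc : Xc ⟶ B}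
    (hj : IsPullback j fc f i) (i₀ : Spec k ⟶ S) [IsClosedImmersion i₀] (hI : i₀.ker * i.ker = ⊥)
    {x₀ : X₀ ⟶ Spec k} {t : X₀ ⟶ j.ker.subscheme} (ht : IsPullback (t ≫ j.ker.subschemeι) x₀ f i₀) :
    ∃ ι : Type u, Finite ι ∧ Nonempty ((Scheme.Modules.pullback j.ker.subschemeι).obj (ClSub.idealMod j.ker) ≅
      (Scheme.Modules.pushforward t).obj (∐ fun _ : ι => Coh.structureModule X₀)) := by
  obtain ⟨a⟩ := nonempty_pullback_idealMod_iso f i hj
  have hu := HomO15.isIso_unit i₀ (killed_idealMod_of_mul i₀ i.ker hI)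
  let N := (Scheme.Modules.pullback i₀).obj (ClSub.idealMod i.ker)
  have hNq : Coh.IsQCoh N := M1.isQCoh_pullback i₀ (M2.isQCoh_idealMod _)
  obtain ⟨ι, hι, ⟨eN⟩⟩ := SmoothObs3.exists_free_of_field hk N hNq (M1.isFT_pullback i₀ (SmoothObs3.isFT_idealMod _))
  obtain ⟨e'⟩ := GrpOmega.nonempty_pullback_free x₀ ι
  have hb := PullBC11.isIso_bcMap ht.flip N hNq
  let adj := Scheme.Modules.pullbackPushforwardAdjunction j.ker.subschemeι
  haveI : IsIso (adj.counit.app ((Scheme.Modules.pushforward t).obj (∐ fun _ : ι => Coh.structureModule X₀))) :=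
    ClImmProj14.isIso_counit j.ker.subschemeι _
  refine ⟨ι, hι, ⟨(Scheme.Modules.pullback j.ker.subschemeι).mapIso (a.symm ≪≫
    (Scheme.Modules.pullback f).mapIso (@asIso _ _ _ _ _ hu) ≪≫
    @asIso _ _ _ _ _ hb ≪≫
    (Scheme.Modules.pushforward (t ≫ j.ker.subschemeι)).mapIso ((Scheme.Modules.pullback x₀).mapIso eN ≪≫ e') ≪≫
    ((Scheme.Modules.pushforwardComp t j.ker.subschemeι).app _).symm) ≪≫
    asIso (adj.counit.app ((Scheme.Modules.pushforward t).obj (∐ fun _ : ι => Coh.structureModule X₀)))⟩⟩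

/-- Homomorphism sheaves of isomorphic modules. -/
theorem nonempty_sheafHom_congr {Y : Scheme.{u}} {A A' : Y.Modules} [DCoh.HasSheafHom A] [DCoh.HasSheafHom A']
    (e : A ≅ A') (N : Y.Modules) : Nonempty ((DCoh.sheafHom A).obj N ≅ (DCoh.sheafHom A').obj N) := by
  obtain ⟨e₁⟩ := HilbObs3.nonempty_sheafHom_iso A N
  obtain ⟨e₂⟩ := HilbObs3.nonempty_sheafHom_iso A' N
  obtain ⟨e₃⟩ := HilbObs3.nonempty_iso_of_equiv (P := M2.homMod A N) (Q := M2.homMod A' N)
    (fun M => ((HilbObs3.homEquivT A M N).symm.trans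
      ((M2.tensorIso e (Iso.refl M)).homCongr (Iso.refl N))).trans (HilbObs3.homEquivT A' M N))
    fun {M M'} g φ => by
      show HilbObs3.homEquivT A' M' N ((M2.tensorIso e (Iso.refl M')).inv ≫
          (HilbObs3.homEquivT A M' N).symm (g ≫ φ) ≫ 𝟙 N) =
        g ≫ HilbObs3.homEquivT A' M N ((M2.tensorIso e (Iso.refl M)).inv ≫ (HilbObs3.homEquivT A M N).symm φ ≫ 𝟙 N)
      rw [← HilbObs3.homEquivT_natural]
      refine congrArg _ ?_
      have h : (HilbObs3.homEquivT A M' N).symm (g ≫ φ) =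
          M2.tensorMap (𝟙 A) g ≫ (HilbObs3.homEquivT A M N).symm φ := by
        rw [Equiv.symm_apply_eq, HilbObs3.homEquivT_natural, Equiv.apply_symm_apply]
      rw [h, Category.comp_id, Category.comp_id, ← Category.assoc, ← Category.assoc]
      refine congrArg (· ≫ _) ?_
      show M2.tensorMap e.inv (𝟙 M') ≫ M2.tensorMap (𝟙 A) g = M2.tensorMap (𝟙 A') g ≫ M2.tensorMap e.inv (𝟙 M)
      rw [← M2.tensorMap_comp, ← M2.tensorMap_comp, Category.comp_id, Category.id_comp, Category.id_comp,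
        Category.comp_id]
  exact ⟨e₁ ≪≫ e₃ ≪≫ e₂.symm⟩

/-- Tensor products with a free module on the closed fibre. -/
theorem nonempty_tensor_iso {Z X₀ : Scheme.{u}} (t : X₀ ⟶ Z) [IsClosedImmersion t]
    {G : Z.Modules} {ι : Type u} [Finite ι]
    (eG : G ≅ (Scheme.Modules.pushforward t).obj (∐ fun _ : ι => Coh.structureModule X₀))
    {F : Z.Modules} {F₀ : X₀.Modules} (e₀ : (Scheme.Modules.pullback t).obj F ≅ F₀) :
    Nonempty (CohB1.tensorMod G F ≅ ∐ fun _ : ι => (Scheme.Modules.pushforward t).obj F₀) := by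
  haveI := ClImmProj14.isIso_projHom t F (∐ fun _ : ι => Coh.structureModule X₀)
  let W := ∐ fun _ : ι => Coh.structureModule X₀
  exact ⟨M2.tensorIso eG (Iso.refl F) ≪≫ M2.tensorComm _ _ ≪≫ asIso (AmpleFin18.projHom t F W) ≪≫
      (Scheme.Modules.pushforward t).mapIso (M2.tensorComm _ _ ≪≫
        PreservesCoproduct.iso (M2.tensorR ((Scheme.Modules.pullback t).obj F)) _ ≪≫
        Sigma.mapIso (fun _ => M2.tensorLUnit _ ≪≫ e₀)) ≪≫
      PreservesCoproduct.iso (Scheme.Modules.pushforward t) fun _ : ι => F₀⟩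

/-- Obstruction groups with values in a free module on the closed fibre. -/
theorem subsingleton_ext_tensor {Z X₀ : Scheme.{u}} (t : X₀ ⟶ Z) [IsClosedImmersion t] [HasExt.{u} Z.Modules]
    {G : Z.Modules} {ι : Type u} [Finite ι]
    (eG : G ≅ (Scheme.Modules.pushforward t).obj (∐ fun _ : ι => Coh.structureModule X₀))
    {F : Z.Modules} (hF : FlatMod.IsFinLocFree F) {F₀ : X₀.Modules} (e₀ : (Scheme.Modules.pullback t).obj F ≅ F₀)
    [DCoh.HasSheafHom F₀] (n : ℕ) (h : Subsingleton (Coh.HH X₀ ((DCoh.sheafHom F₀).obj F₀) n)) :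
    Subsingleton (Ext.{u} F (CohB1.tensorMod G F) n) := by
  haveI : DCoh.HasSheafHom F := HilbObs3.hasSheafHom _
  haveI : DCoh.HasSheafHom ((Scheme.Modules.pullback t).obj F) := HilbObs3.hasSheafHom _
  obtain ⟨e1⟩ := nonempty_tensor_iso t eG e₀
  refine SmoothObs3.subsingleton_ext_of_iso (Iso.refl F) e1.symm
    (SmoothObs3.subsingleton_ext_coproduct F ((Scheme.Modules.pushforward t).obj F₀) ?_)
  obtain ⟨e⟩ := S12483.result Z F ((Scheme.Modules.pushforward t).obj F₀) hF n
  obtain ⟨a⟩ := @HilbObs3.nonempty_push_sheafHom_iso Z F X₀ t ‹_› F₀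
  obtain ⟨b⟩ := HilbObs3.nonempty_sheafHom_iso F ((Scheme.Modules.pushforward t).obj F₀)
  obtain ⟨c⟩ := nonempty_sheafHom_congr e₀ F₀
  obtain ⟨d⟩ := HilbObs3.nonempty_sheafHom_iso F₀ F₀
  have hq : Coh.IsQCoh ((DCoh.sheafHom F₀).obj F₀) :=
    (SheafOfModules.isQuasicoherent X₀.ringCatSheaf).prop_of_iso (show _ ≅ _ from d.symm)
      (HomShH7.isQCoh_homMod (((M1.isFinLocFree_iff _).1 (M2.isFinLocFree_of_iso e₀ (M2.isFinLocFree_pullback t hF))).1)
        (M2.isQCoh_of_isFinLocFree (M2.isFinLocFree_of_iso e₀ (M2.isFinLocFree_pullback t hF))))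
  haveI := AffStratVan4.subsingleton_HH_congr ((Scheme.Modules.pushforward t).mapIso c.symm ≪≫ a ≪≫ b.symm) n
    (AffStratVan4.subsingleton_HH_push t _ hq n h)
  exact e.toEquiv.subsingleton

end Groth.Agent.VecLift3
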